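import Mathlib

/-!
# Krull–Akizuki for the integral closure in the fraction field
-/

set_option autoImplicit false

universe u

open Pointwise

namespace Groth.Agent.KrullAkizuki

variable {B : Type u} [CommRing B] [IsDomain B] [IsNoetherianRing B] [Ring.KrullDimLE 1 B]

theorem length_ideal_quotient (I : Ideal B) (hI : I ≠ ⊥) (a : B) (ha : a ≠ 0) :
    Module.length B (↥I ⧸ (a • (⊤ : Submodule B I))) = Ring.ord B a := by
  obtain ⟨c, hcI, hc⟩ := Submodule.exists_mem_ne_zero_of_ne_bot hI
  let aI : Ideal B := a • I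
  have haI : aI ≤ I := fun x hx => by
    obtain ⟨y, hy, rfl⟩ := (Submodule.mem_smul_pointwise_iff_exists _ _ _).1 hx
    exact I.mul_mem_left a hy
  -- `0 → I/aI → B/aI → B/I → 0`
  let f₁ : (↥I ⧸ (a • (⊤ : Submodule B I))) →ₗ[B] B ⧸ aI :=
    Submodule.mapQ _ _ I.subtype (by
      intro x hx
      obtain ⟨y, -, rfl⟩ := (Submodule.mem_smul_pointwise_iff_exists _ _ _).1 hx
      exact (Submodule.mem_smul_pointwise_iff_exists _ _ _).2 ⟨y.1, y.2, rfl⟩)
  have hf₁ : Function.Injective f₁ := by
    rw [injective_iff_map_eq_zero]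
    intro x hx
    obtain ⟨y, rfl⟩ := Submodule.Quotient.mk_surjective _ x
    obtain ⟨z, hz, hzy⟩ := (Submodule.mem_smul_pointwise_iff_exists _ _ _).1
      ((Submodule.Quotient.mk_eq_zero _).1 hx)
    exact (Submodule.Quotient.mk_eq_zero _).2
      ((Submodule.mem_smul_pointwise_iff_exists _ _ _).2 ⟨⟨z, hz⟩, trivial, Subtype.ext hzy⟩)
  let g₁ : (B ⧸ aI) →ₗ[B] B ⧸ I := Submodule.factor haI
  have h₁ : Function.Exact f₁ g₁ := by
    intro x
    obtain ⟨y, rfl⟩ := Submodule.Quotient.mk_surjective _ x
    constructor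
    · intro h
      exact ⟨Submodule.Quotient.mk ⟨y, (Submodule.Quotient.mk_eq_zero _).1 h⟩, rfl⟩
    · rintro ⟨z, hz⟩
      obtain ⟨w, rfl⟩ := Submodule.Quotient.mk_surjective _ z
      rw [← hz]
      exact (Submodule.Quotient.mk_eq_zero _).2 w.2
  have e₁ := Module.length_eq_add_of_exact f₁ g₁ hf₁ (Submodule.factor_surjective haI) h₁
  -- `0 → B/I → B/aI → B/aB → 0`
  let f₂ : (B ⧸ I) →ₗ[B] B ⧸ aI := Submodule.mapQ _ _ (a • LinearMap.id) (fun x hx =>
    (Submodule.mem_smul_pointwise_iff_exists _ _ _).2 ⟨x, hx, rfl⟩)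
  have hle : aI ≤ Ideal.span {a} := fun x hx => by
    obtain ⟨y, -, rfl⟩ := (Submodule.mem_smul_pointwise_iff_exists _ _ _).1 hx
    exact Ideal.mem_span_singleton.2 (dvd_mul_right a y)
  let g₂ : (B ⧸ aI) →ₗ[B] B ⧸ Ideal.span {a} := Submodule.factor hle
  have hf₂ : Function.Injective f₂ := by
    rw [injective_iff_map_eq_zero]
    intro x hx
    obtain ⟨y, rfl⟩ := Submodule.Quotient.mk_surjective _ x
    obtain ⟨z, hz, hzy⟩ := (Submodule.mem_smul_pointwise_iff_exists _ _ _).1
      ((Submodule.Quotient.mk_eq_zero _).1 hx)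
    rw [smul_eq_mul] at hzy
    have e : z = y := mul_left_cancel₀ ha hzy
    exact (Submodule.Quotient.mk_eq_zero _).2 (e ▸ hz)
  have h₂ : Function.Exact f₂ g₂ := by
    intro x
    obtain ⟨y, rfl⟩ := Submodule.Quotient.mk_surjective _ x
    constructor
    · intro h
      obtain ⟨z, rfl⟩ := Ideal.mem_span_singleton.1 ((Submodule.Quotient.mk_eq_zero _).1 h)
      exact ⟨Submodule.Quotient.mk z, rfl⟩
    · rintro ⟨z, hz⟩
      obtain ⟨w, rfl⟩ := Submodule.Quotient.mk_surjective _ z
      rw [← hz]
      exact (Submodule.Quotient.mk_eq_zero _).2 (Ideal.mem_span_singleton.2 ⟨w, rfl⟩)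
  have e₂ := Module.length_eq_add_of_exact f₂ g₂ hf₂ (Submodule.factor_surjective hle) h₂
  have hfin : Module.length B (B ⧸ I) ≠ ⊤ := by
    refine ne_top_of_le_ne_top (Ring.ord_ne_top (R := B) (mem_nonZeroDivisors_of_ne_zero hc)) ?_
    exact Module.length_le_of_surjective
      (Submodule.factor (show Ideal.span {c} ≤ I from (Ideal.span_singleton_le_iff_mem _).2 hcI))
      (Submodule.factor_surjective _)
  rw [e₁, add_comm] at e₂
  exact (WithTop.add_left_inj hfin).1 e₂

variable {K : Type u} [Field K] [Algebra B K] [IsFractionRing B K]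

theorem length_fg_quotient_le (M : Submodule B K) (hM : M.FG) (a : B) (ha : a ≠ 0) :
    Module.length B (↥M ⧸ (a • (⊤ : Submodule B M))) ≤ Ring.ord B a := by
  classical
  obtain ⟨S, hS⟩ := hM
  obtain ⟨d, hd⟩ := IsLocalization.exist_integer_multiples (nonZeroDivisors B) S id
  have hd0 : algebraMap B K (d : B) ≠ 0 := IsFractionRing.to_map_ne_zero_of_mem_nonZeroDivisors d.2
  let I : Ideal B := (M.map ((d : B) • (LinearMap.id : K →ₗ[B] K))).comap (Algebra.linearMap B K)
  have hmem : ∀ m ∈ M, ∃ b : B, algebraMap B K b = (d : B) • m := by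
    intro m hm
    rw [← hS] at hm
    induction hm using Submodule.span_induction with
    | mem x hx => exact hd x hx
    | zero => exact ⟨0, by simp⟩
    | add x y _ _ hx hy =>
      obtain ⟨b, hb⟩ := hx; obtain ⟨c, hc⟩ := hy
      exact ⟨b + c, by rw [map_add, hb, hc, smul_add]⟩
    | smul r x _ hx =>
      obtain ⟨b, hb⟩ := hx
      exact ⟨r * b, by rw [map_mul, hb, smul_comm (d : B) r, Algebra.smul_def r]⟩
  choose φ hφ using hmem
  let e : M →ₗ[B] I :=
    { toFun := fun m => ⟨φ m.1 m.2, ⟨m.1, m.2, (hφ m.1 m.2).symm⟩⟩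
      map_add' := fun x y => Subtype.ext (IsFractionRing.injective B K (by
        simp only [Submodule.coe_add, hφ, smul_add, map_add]))
      map_smul' := fun r x => Subtype.ext (IsFractionRing.injective B K (by
        simp only [SetLike.val_smul, RingHom.id_apply, hφ, smul_eq_mul, map_mul]
        rw [smul_comm (d : B) r, Algebra.smul_def r])) }
  have he : Function.Bijective e := by
    refine ⟨fun x y h => Subtype.ext ?_, fun y => ?_⟩
    · have h1 := congrArg (fun z : I => algebraMap B K z.1) h
      simp only [e, LinearMap.coe_mk, AddHom.coe_mk, hφ, Algebra.smul_def] at h1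
      exact mul_left_cancel₀ hd0 h1
    · obtain ⟨m, hm, hmy⟩ := y.2
      exact ⟨⟨m, hm⟩, Subtype.ext (IsFractionRing.injective B K ((hφ m hm).trans hmy))⟩
  by_cases hI : I = ⊥
  · have : Subsingleton M := ⟨fun x y => he.1 (Subtype.ext (by
      rw [(Submodule.mem_bot B).1 (hI.le (e x).2), (Submodule.mem_bot B).1 (hI.le (e y).2)]))⟩
    rw [Module.length_eq_zero]; exact zero_le
  let E := LinearEquiv.ofBijective e he
  have hmap : (a • (⊤ : Submodule B M)).map (E : M →ₗ[B] I) = a • (⊤ : Submodule B I) := by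
    rw [Submodule.map_pointwise_smul]
    congr 1
    exact LinearMap.range_eq_top.2 E.surjective ▸ (LinearMap.range_eq_map _).symm
  rw [LinearEquiv.length_eq (Submodule.Quotient.equiv _ _ E hmap), length_ideal_quotient I hI a ha]

theorem length_quotient_le (M : Submodule B K) (a : B) (ha : a ≠ 0) :
    Module.length B (↥M ⧸ (a • (⊤ : Submodule B M))) ≤ Ring.ord B a := by
  classical
  rw [Module.length_eq_height, Order.height_le_iff']
  intro p _
  have hex : ∀ i : Fin p.length, ∃ x, x ∈ p i.succ ∧ x ∉ p i.castSucc := fun i =>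
    SetLike.exists_of_lt (p.step i)
  choose x hx1 hx2 using hex
  choose m hm using fun i => Submodule.Quotient.mk_surjective (a • (⊤ : Submodule B M)) (x i)
  let M0 : Submodule B K := Submodule.span B (Set.range fun i => (m i : K))
  have hM0 : M0 ≤ M := Submodule.span_le.2 (by rintro _ ⟨i, rfl⟩; exact (m i).2)
  let φ : (↥M0 ⧸ (a • (⊤ : Submodule B M0))) →ₗ[B] (↥M ⧸ (a • (⊤ : Submodule B M))) :=
    Submodule.mapQ _ _ (Submodule.inclusion hM0) (by
      intro z hz
      obtain ⟨y, -, rfl⟩ := (Submodule.mem_smul_pointwise_iff_exists _ _ _).1 hz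
      exact (Submodule.mem_smul_pointwise_iff_exists _ _ _).2 ⟨Submodule.inclusion hM0 y, trivial, rfl⟩)
  have hrange : ∀ i, x i ∈ LinearMap.range φ := fun i =>
    ⟨Submodule.Quotient.mk ⟨(m i : K), Submodule.subset_span ⟨i, rfl⟩⟩, hm i⟩
  let q : LTSeries (Submodule B (↥M0 ⧸ (a • (⊤ : Submodule B M0)))) :=
    { length := p.length
      toFun := fun i => (p i).comap φ
      step := fun i => by
        refine lt_of_le_of_ne (Submodule.comap_mono (p.step i).le) fun h => ?_
        obtain ⟨z, hz⟩ := hrange i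
        have h3 : z ∈ (p i.succ).comap φ := by rw [Submodule.mem_comap, hz]; exact hx1 i
        have h4 := h.ge h3
        rw [Submodule.mem_comap, hz] at h4
        exact hx2 i h4 }
  refine le_trans ?_ (length_fg_quotient_le M0 (Submodule.fg_span (Set.finite_range _)) a ha)
  rw [Module.length_eq_height]
  exact le_trans (Order.length_le_height_last (p := q)) (Order.height_mono le_top)

section Closure

variable (B K)

theorem isDedekindDomain_integralClosure :
    IsDedekindDomain (integralClosure B K) := by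
  let B' := integralClosure B K
  have hinj : Function.Injective (algebraMap B B') := fun x y h =>
    IsFractionRing.injective B K (congrArg Subtype.val h)
  have : IsFractionRing B' K := integralClosure.isFractionRing_of_finite_extension K K
  have hnoeth : IsNoetherianRing B' := by
    refine (isNoetherianRing_iff_ideal_fg B').2 fun J => ?_
    by_cases hJ : J = ⊥
    · subst hJ; exact Submodule.fg_bot
    obtain ⟨z, hzJ, hz⟩ := Submodule.exists_mem_ne_zero_of_ne_bot hJ
    have hcomap : J.comap (algebraMap B B') ≠ ⊥ :=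
      Ideal.comap_ne_bot_of_integral_mem hz hzJ (Algebra.IsIntegral.isIntegral z)
    obtain ⟨a, haJ, ha⟩ := Submodule.exists_mem_ne_zero_of_ne_bot hcomap
    let M : Submodule B K := Subalgebra.toSubmodule B'
    have hlen : Module.length B (↥B' ⧸ (a • (⊤ : Submodule B B'))) ≠ ⊤ :=
      ne_top_of_le_ne_top (Ring.ord_ne_top (R := B) (mem_nonZeroDivisors_of_ne_zero ha))
        (length_quotient_le M a ha)
    have hN : IsNoetherian B (↥B' ⧸ (a • (⊤ : Submodule B B'))) :=
      (isFiniteLength_iff_isNoetherian_isArtinian.1 (Module.length_ne_top_iff.1 hlen)).1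
    obtain ⟨S, hS⟩ := hN.noetherian ((J.restrictScalars B).map (Submodule.mkQ _))
    choose! s hsJ hs using fun (y : ↥B' ⧸ (a • (⊤ : Submodule B B'))) (hy : y ∈ S) =>
      Submodule.mem_map.1 (hS.le (Submodule.subset_span hy))
    classical
    refine ⟨insert (algebraMap B B' a) (S.image s), ?_⟩
    refine le_antisymm (Submodule.span_le.2 ?_) fun w hw => ?_
    · intro w hw
      rcases Finset.mem_insert.1 hw with rfl | hw
      · exact haJ
      · obtain ⟨y, hy, rfl⟩ := Finset.mem_image.1 hw
        exact hsJ y hy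
    let N : Ideal B' := Ideal.span ↑(insert (algebraMap B B' a) (S.image s))
    have h1 : (Submodule.mkQ (a • (⊤ : Submodule B B'))) w ∈
        (N.restrictScalars B).map (Submodule.mkQ _) := by
      refine (show Submodule.span B (S : Set (↥B' ⧸ (a • (⊤ : Submodule B B')))) ≤ _ from Submodule.span_le.2 ?_)
        (hS.ge (Submodule.mem_map_of_mem hw))
      intro y hy
      exact ⟨s y, Ideal.subset_span (Finset.mem_insert_of_mem (Finset.mem_image_of_mem s hy)), hs y hy⟩
    obtain ⟨v, hv, hvw⟩ := Submodule.mem_map.1 h1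
    obtain ⟨t, -, ht⟩ := (Submodule.mem_smul_pointwise_iff_exists _ _ _).1
      ((Submodule.Quotient.eq _).1 hvw)
    have ht' : v - w = algebraMap B B' a * t := by rw [← Algebra.smul_def]; exact ht.symm
    rw [show w = v - algebraMap B B' a * t by rw [← ht']; ring]
    exact N.sub_mem hv (N.mul_mem_right _ (Ideal.subset_span (Finset.mem_insert_self _ _)))
  have hdim : Ring.DimensionLEOne B' := by
    refine ⟨fun {p} hp0 hp => ?_⟩
    obtain ⟨z, hzp, hz⟩ := Submodule.exists_mem_ne_zero_of_ne_bot hp0
    have hne : p.comap (algebraMap B B') ≠ ⊥ :=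
      Ideal.comap_ne_bot_of_integral_mem hz hzp (Algebra.IsIntegral.isIntegral z)
    have : (p.comap (algebraMap B B')).IsMaximal := by
      rcases Ring.krullDimLE_one_iff.1 ‹Ring.KrullDimLE 1 B› _ (hp.comap (algebraMap B B')) with h | h
      · rw [IsDomain.minimalPrimes_eq_singleton_bot] at h
        exact absurd h hne
      · exact h
    exact Ideal.isMaximal_of_isIntegral_of_isMaximal_comap p this
  have : IsIntegrallyClosed B' := integralClosure.isIntegrallyClosedOfFiniteExtension K
  exact { toIsDomain := inferInstance, toIsNoetherian := hnoeth, toDimensionLEOne := hdim,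
          toIsIntegralClosure := inferInstance }

theorem finite_maximalSpectrum_integralClosure [Finite (MaximalSpectrum B)] :
    Finite (MaximalSpectrum (integralClosure B K)) := by
  classical
  let B' := integralClosure B K
  have := isDedekindDomain_integralClosure B K
  have hinj : Function.Injective (algebraMap B B') := fun x y h =>
    IsFractionRing.injective B K (congrArg Subtype.val h)
  by_cases hfield : IsField B'
  · have : Subsingleton (MaximalSpectrum B') := ⟨fun m m' => MaximalSpectrum.ext (by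
      let _ := hfield.toField
      rw [Ideal.eq_bot_of_prime m.asIdeal, Ideal.eq_bot_of_prime m'.asIdeal])⟩
    infer_instance
  -- a nonzero element in all maximal ideals of `B`
  let _ : Fintype (MaximalSpectrum B) := Fintype.ofFinite _
  have hB : ¬ IsField B := fun h => hfield (Algebra.IsIntegral.isField_iff_isField hinj |>.1 h)
  choose c hc hc0 using fun m : MaximalSpectrum B =>
    Submodule.exists_mem_ne_zero_of_ne_bot (Ring.ne_bot_of_isMaximal_of_not_isField m.isMaximal hB)
  let a := ∏ m, c m
  have ha0 : a ≠ 0 := Finset.prod_ne_zero_iff.2 fun m _ => hc0 m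
  have hall : ∀ m : MaximalSpectrum B', m.asIdeal ∣ Ideal.span {algebraMap B B' a} := by
    intro m
    have := m.isMaximal
    rw [Ideal.dvd_iff_le, Ideal.span_le, Set.singleton_subset_iff, SetLike.mem_coe]
    have h1 : (m.asIdeal.comap (algebraMap B B')).IsMaximal :=
      Ideal.isMaximal_comap_of_isIntegral_of_isMaximal m.asIdeal
    exact Ideal.mem_of_dvd _ (map_dvd (algebraMap B B') (Finset.dvd_prod_of_mem c (Finset.mem_univ (⟨_, h1⟩ : MaximalSpectrum B))))
      (hc ⟨_, h1⟩)
  have hne : Ideal.span {algebraMap B B' a} ≠ 0 := by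
    rw [Ne, ← Ideal.zero_eq_bot.symm, Ideal.span_singleton_eq_bot]
    exact fun h => ha0 (hinj (h.trans (map_zero _).symm))
  have := (Ideal.finite_factors hne).to_subtype
  refine Finite.of_injective (fun m : MaximalSpectrum B' =>
    (⟨⟨m.asIdeal, m.isMaximal.isPrime, Ring.ne_bot_of_isMaximal_of_not_isField m.isMaximal hfield⟩, hall m⟩ :
      {v : IsDedekindDomain.HeightOneSpectrum B' | v.asIdeal ∣ Ideal.span {algebraMap B B' a}})) ?_
  intro m m' h
  exact MaximalSpectrum.ext (congrArg (fun v => v.1.asIdeal) h)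

end Closure

end Groth.Agent.KrullAkizuki
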